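import Cfsg.Agent.Omega.EK3.FK.Gen

/-!
# (4F-K) with weak inputs: the frame `FrW`, generation

Port of helper203's `EK3/FK/{Fr, Gen}.lean` to a frame over `Bg` and `LB` only: `blk` = the minimal parabolics in
`Y_j = C_G(z_l : l ≠ j)` which move `z_j`, `K ≰ O₂(R)`, are `⟨T, L'⟩`, `L' ≤ N(W j) ∩ ⋂_{l ≠ j} C(Z l)` (no UNI+, no
block generation outside `Y_j`; so it can be used over `MulG`, `MulX.MulL`).

* `FrW`; `FrW.of` : from `FrK`;  `FrW.par`, `FrW.norm_T`, `FrW.trW`, `FrW.gen` as for `FrK`.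
-/

set_option autoImplicit false
set_option linter.unusedSectionVars false

namespace Cfsg.Agent.Omega.EK3.FKG

open Subgroup Cfsg Cfsg.Agent.ZN.ChoiceBase
open Cfsg.Agent.ZN (jj zj bau zc zl o2)
open Cfsg.Agent.ZN.ChoiceSit (Syl exists_syl syl_conj)
open Cfsg.Agent.Omega.NO3S.EThree.Frame
open Cfsg.Agent.Omega.Node.MultiOf
open Cfsg.Agent.Omega.OM.LevD (LB)
open Cfsg.Agent.Omega.EK3.FK
open Cfsg.Agent.MinSimple.MinParabolic (IsMinPar le_of_forall)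
open Cfsg.Agent.MinSimple.VModule (o2_isPGroup le_o2 le_normalizer_o2 o2_le_of_sylow)

universe u

variable {G : Type u} [Group G] {k : ℕ}

/-- **The weak frame.** -/
structure FrW [Finite G] (S : Sylow 2 G) (P K B ZJ : Subgroup G) (L W Z C : Fin k → Subgroup G) (z : Fin k → G) :
    Prop where
  bg : Bg S P B ZJ L W Z C 4
  lb : LB S K B ZJ
  two : 2 ≤ k
  zZ : ∀ i, z i ∈ Z i
  z1 : ∀ i, z i ≠ 1
  Tz : ∀ i, ∀ t ∈ TT S W, t * z i = z i * t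
  /-- `C_{Z_i}(T) = ⟨z_i⟩` -/
  fx : ∀ i, ∀ w ∈ Z i, (∀ t ∈ TT S W, t * w = w * t) → w = 1 ∨ w = z i
  /-- block generation in `Y_j` -/
  blk : ∀ j, ∀ R : Subgroup G, R ≤ YY z j → IsMinPar (TT S W) R → Syl (TT S W) R →
    R ⊓ centralizer (o2 R : Set G) ≤ o2 R → ¬ K ≤ o2 R → ¬ (∀ r ∈ R, r * z j = z j * r) →
      ∃ L' : Subgroup G, L' ≤ R ∧ R ≤ L' ⊔ TT S W ∧ L' ≤ normalizer (W j : Set G) ∧
        ∀ l, l ≠ j → L' ≤ centralizer (Z l : Set G)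

namespace FrW

variable [Finite G] {S : Sylow 2 G} {P K B ZJ : Subgroup G} {L W Z C : Fin k → Subgroup G} {z : Fin k → G}
  (h : FrW S P K B ZJ L W Z C z)
include h

omit h in
theorem T_le_S : TT S W ≤ (S : Subgroup G) := inf_le_left

omit h in
theorem T_two : IsPGroup 2 (TT S W) := S.isPGroup'.to_le T_le_S

omit h in
theorem T_W (l : Fin k) : TT S W ≤ normalizer (W l : Set G) := inf_le_right.trans (iInf_le _ l)

omit h in
theorem mem_T {s : G} (hs : s ∈ (S : Subgroup G)) (hW : ∀ l, cj s (W l) = W l) : s ∈ TT S W :=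
  mem_inf.2 ⟨hs, mem_iInf.2 fun l => mem_normalizer_iff_cj.2 (hW l)⟩

theorem B_W (l : Fin k) : B ≤ normalizer (W l : Set G) := le_norm_of fun b hb w hw =>
  (h.bg.fr.blk l).nV b ((h.bg.fr.blk l).BL hb) w hw

theorem B_T : B ≤ TT S W := le_inf h.bg.BS (le_iInf h.B_W)

theorem T_B : TT S W ≤ normalizer (B : Set G) := T_le_S.trans h.bg.S_norm_B

theorem cj_Z_of_W {n : G} (hn : n ∈ normalizer (B : Set G)) {i j : Fin k} (e : cj n (W i) = W j) :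
    cj n (Z i) = Z j := h.bg.cj_Z hn e

theorem T_Z (l : Fin k) : TT S W ≤ normalizer (Z l : Set G) := fun _ ht =>
  mem_normalizer_iff_cj.2 (h.cj_Z_of_W (h.T_B ht) (mem_normalizer_iff_cj.1 (T_W l ht)))

theorem z_W (i : Fin k) : z i ∈ W i := (h.bg.fr.blk i).ZV (h.zZ i)

theorem z_ZJ (i : Fin k) : z i ∈ ZJ := h.bg.fr.Z_le i (h.zZ i)

theorem Z_B (i : Fin k) : Z i ≤ B := ((h.bg.fr.Z_le i).trans h.bg.fr.ZJV).trans h.bg.fr.VB

theorem ZJ_B : ZJ ≤ B := h.bg.fr.ZJV.trans h.bg.fr.VB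

theorem ZJ_comm {a b : G} (ha : a ∈ ZJ) (hb : b ∈ ZJ) : a * b = b * a :=
  h.bg.fr.Vc (h.bg.fr.ZJV ha) (h.bg.fr.ZJV hb)

theorem ZJ_sq {a : G} (ha : a ∈ ZJ) : a ^ 2 = 1 := h.bg.fr.Vsq (h.bg.fr.ZJV ha)

theorem z_comm (i : Fin k) {t : G} (ht : t ∈ TT S W) : t * z i = z i * t := h.Tz i t ht

theorem T_D : TT S W ≤ DD z := fun _ ht => mem_DD.2 fun l => h.Tz l _ ht

theorem T_Y (j : Fin k) : TT S W ≤ YY z j := h.T_D.trans DD_le_CT

theorem cZJ_D : centralizer (ZJ : Set G) ≤ DD z := fun _ hx => mem_DD.2 fun l =>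
  (mem_centralizer_iff.1 hx _ (h.z_ZJ l)).symm

theorem eq_of_z_mem {i l : Fin k} (h1 : z l ∈ Z i) : i = l := by
  by_contra hne
  have h2 : z l ∈ Z i ⊓ Z l := ⟨h1, h.zZ l⟩
  rw [h.bg.Z_disj hne, mem_bot] at h2
  exact h.z1 l h2

/-- `n ∈ N_G(B)` centralising `z l` normalises `W l` and `Z l` -/
theorem fx_of_z {n : G} (hn : n ∈ normalizer (B : Set G)) {l : Fin k} (hl : n * z l = z l * n) :
    cj n (W l) = W l ∧ cj n (Z l) = Z l := by
  obtain ⟨σ, hσ⟩ := h.bg.perm_W hn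
  have h1 : z l ∈ Z (σ l) := by
    rw [← (hσ l).2, mem_cj]
    have e : n⁻¹ * z l * n = z l := by rw [mul_assoc, ← hl]; group
    rw [e]
    exact h.zZ l
  have h2 := h.eq_of_z_mem h1
  have h3 := hσ l
  rwa [h2] at h3

/-- **`n ∈ N_G(B) ∩ Y_j` normalises all `W l`, `Z l`** -/
theorem fx_YY {j : Fin k} {n : G} (hn : n ∈ normalizer (B : Set G)) (hY : n ∈ YY z j) (l : Fin k) :
    cj n (W l) = W l ∧ cj n (Z l) = Z l := by
  by_cases hl : l = j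
  · subst hl
    obtain ⟨σ, hσ⟩ := h.bg.perm_W hn
    have h1 : σ l = l := by
      by_contra hne
      have h2 := h.fx_of_z hn (mem_YY.1 hY _ hne)
      have h3 := (hσ (σ l)).1
      rw [h2.1] at h3
      exact hne (σ.injective (h.bg.W_inj h3).symm)
    have h3 := hσ l
    rwa [h1] at h3
  · exact h.fx_of_z hn (mem_YY.1 hY l hl)

/-- a 2-group over `B` normalising all `W l` has order `≤ |T|` -/
theorem card_le {R : Subgroup G} (hR : IsPGroup 2 R) (hB : B ≤ R) (hf : ∀ r ∈ R, ∀ l, cj r (W l) = W l) :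
    Nat.card R ≤ Nat.card (TT S W) := by
  have h1 := h.bg.le_norm_B hR hB
  obtain ⟨R', hR', hle⟩ := exists_syl hR h1
  have hS : Syl (S : Subgroup G) (normalizer (B : Set G)) :=
    ⟨h.bg.S_norm_B, S.isPGroup', fun _ _ hT hST => S.is_maximal' hT hST⟩
  obtain ⟨x, hx, rfl⟩ := syl_conj hS hR'
  rw [← card_cj x⁻¹ R]
  refine Subgroup.card_le_of_le fun y hy => ?_
  rw [mem_cj, inv_inv] at hy
  have h2 : y ∈ (S : Subgroup G) := by
    have h3 := hle hy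
    rw [mem_cj] at h3
    have e : x⁻¹ * (x * y * x⁻¹) * x = y := by group
    rwa [e] at h3
  refine mem_T h2 fun l => ?_
  obtain ⟨σ, hσ⟩ := h.bg.perm_W hx
  have h3 := hf _ hy (σ l)
  rw [← (hσ l).1] at h3
  have h4 := congrArg (cj x⁻¹) h3
  rw [cj_cj, cj_inv_cj, cj_cj] at h4
  have e : x⁻¹ * (x * y * x⁻¹) * x = y := by group
  rwa [e] at h4

/-- **`T` is Sylow in `X`** -/
theorem syl_of {X : Subgroup G} (hT : TT S W ≤ X)
    (hf : ∀ R : Subgroup G, R ≤ X → IsPGroup 2 R → B ≤ R → ∀ r ∈ R, ∀ l, cj r (W l) = W l) : Syl (TT S W) X := by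
  refine ⟨hT, T_two, fun R hR h2 hle => ?_⟩
  symm
  exact Subgroup.eq_of_le_of_card_ge hle (h.card_le h2 (h.B_T.trans hle) (hf R hR h2 (h.B_T.trans hle)))

theorem syl_Y {X : Subgroup G} {j : Fin k} (hT : TT S W ≤ X) (hX : X ≤ YY z j) : Syl (TT S W) X :=
  h.syl_of hT fun _ hR h2 hB _ hr l => (h.fx_YY (h.bg.le_norm_B h2 hB hr) (hX (hR hr)) l).1

/-- `0 < k` -/
theorem exists_idx : ∃ j : Fin k, True := ⟨⟨0, by have := h.two; omega⟩, trivial⟩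

theorem syl_D {X : Subgroup G} (hT : TT S W ≤ X) (hX : X ≤ DD z) : Syl (TT S W) X := by
  obtain ⟨j, -⟩ := h.exists_idx
  exact h.syl_Y hT (hX.trans (DD_le_CT (s := {j}ᶜ)))

/-- `N(T) ≤ N(B)` -/
theorem NT_NB : normalizer (TT S W : Set G) ≤ normalizer (B : Set G) := by
  intro g hg
  rw [mem_normalizer_iff_cj]
  refine h.bg.wc _ T_two h.B_T g ?_
  have h1 := cj_mono g h.B_T
  rwa [mem_normalizer_iff_cj.1 hg] at h1

/-- `n ∈ N_G(B) ∩ N_G(T)` permutes the `z i` -/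
theorem cj_z {n : G} (hn : n ∈ normalizer (B : Set G)) (hT : n ∈ normalizer (TT S W : Set G)) {i j : Fin k}
    (e : cj n (Z i) = Z j) : n * z i * n⁻¹ = z j := by
  refine (h.fx j _ (e ▸ ⟨z i, h.zZ i, rfl⟩) fun t ht => ?_).resolve_left fun e1 => h.z1 i (conj_eq_one_iff.1 e1)
  have h1 : n⁻¹ * t * n ∈ TT S W := by
    have := (mem_normalizer_iff.1 (inv_mem hT) t).1 ht
    rwa [inv_inv] at this
  have h2 := h.Tz i _ h1
  calc t * (n * z i * n⁻¹) = n * ((n⁻¹ * t * n) * z i) * n⁻¹ := by group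
    _ = n * (z i * (n⁻¹ * t * n)) * n⁻¹ := by rw [h2]
    _ = n * z i * n⁻¹ * t := by group

/-- **`N_{Y_j}(T) ≤ D`, and it normalises all `Z l`** -/
theorem norm_T {j : Fin k} {n : G} (hY : n ∈ YY z j) (hT : n ∈ normalizer (TT S W : Set G)) :
    n ∈ DD z ∧ ∀ l, n ∈ normalizer (Z l : Set G) := by
  have hn := h.NT_NB hT
  refine ⟨mem_DD.2 fun l => ?_, fun l => mem_normalizer_iff_cj.2 (h.fx_YY hn hY l).2⟩
  exact mul_inv_eq_iff_eq_mul.1 (h.cj_z hn hT (h.fx_YY hn hY l).2)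

/-- Frattini: `N(ZJ) = C(ZJ) N(B)` -/
theorem frattini {g : G} (hg : g ∈ normalizer (ZJ : Set G)) :
    ∃ d ∈ centralizer (ZJ : Set G), ∃ n ∈ normalizer (B : Set G), g = d * n := by
  have h1 : Syl (cj g B) (centralizer (ZJ : Set G)) := by
    refine ⟨?_, isPGroup_cj g h.bg.bau_two, fun R hR h2 hle => ?_⟩
    · have := cj_mono g h.bg.syl_B.1
      rwa [cj_centralizer, mem_normalizer_iff_cj.1 hg] at this
    · symm
      refine Subgroup.eq_of_le_of_card_ge hle ?_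
      rw [card_cj]
      obtain ⟨R', hR', hle'⟩ := exists_syl h2 hR
      obtain ⟨x, -, rfl⟩ := syl_conj h.bg.syl_B hR'
      have h3 := Subgroup.card_le_of_le hle'
      rwa [card_cj] at h3
  obtain ⟨d, hd, e⟩ := syl_conj h.bg.syl_B h1
  refine ⟨d, hd, d⁻¹ * g, ?_, by group⟩
  rw [mem_normalizer_iff_cj, ← cj_cj, ← e, cj_inv_cj]

/-- **`N_{Y_j}(ZJ)` normalises all `Z l`** -/
theorem norm_ZJ {j : Fin k} {g : G} (hY : g ∈ YY z j) (hZ : g ∈ normalizer (ZJ : Set G)) (l : Fin k) :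
    g ∈ normalizer (Z l : Set G) := by
  obtain ⟨d, hd, n, hn, rfl⟩ := h.frattini hZ
  have hdY : d ∈ YY z j := DD_le_CT (h.cZJ_D hd)
  have hnY : n ∈ YY z j := by
    have := mul_mem (inv_mem hdY) hY
    rwa [inv_mul_cancel_left] at this
  refine mul_mem ?_ (mem_normalizer_iff_cj.2 (h.fx_YY hn hnY l).2)
  exact centralizer_le_normalizer _ (centralizer_le (h.bg.fr.Z_le l) hd)

/-- `L i ≤ Y i` -/
theorem L_Y (i : Fin k) : L i ≤ YY z i := fun l hl => mem_YY.2 fun m hm =>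
  h.bg.fr.LC i l hl _ (h.z_ZJ m) (h.bg.fr.WjC i m (Ne.symm hm) (h.z_W m))

theorem L_W (i : Fin k) : L i ≤ normalizer (W i : Set G) := le_norm_of fun l hl w hw => (h.bg.fr.blk i).nV l hl w hw

/-- the point `x ∈ Y_i ∩ N(Z_i)` moving `z_i` to `w ∈ Z_i` -/
theorem tor {i : Fin k} {w : G} (hw : w ∈ Z i) (hw1 : w ≠ 1) :
    ∃ x ∈ YY z i, x ∈ normalizer (Z i : Set G) ∧ x ∈ normalizer (W i : Set G) ∧ x * z i * x⁻¹ = w := by
  obtain ⟨x, hx, hxB, e⟩ := h.bg.tor i (h.zZ i) (h.z1 i) hw hw1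
  exact ⟨x, h.L_Y i hx, mem_normalizer_iff_cj.2 (h.fx_YY hxB (h.L_Y i hx) i).2, h.L_W i hx, e⟩



/-- `C_G(z_l : l ∈ s)` has characteristic 2 -/
theorem char2_CT {s : Set (Fin k)} (hs : s.Nonempty) :
    CT z s ⊓ centralizer (o2 (CT z s) : Set G) ≤ o2 (CT z s) := by
  have e : CT z s = centralizer ((closure (z '' s) : Subgroup G) : Set G) := (centralizer_closure _).symm
  have hle : closure (z '' s) ≤ ZJ := by
    rw [closure_le]
    rintro _ ⟨l, -, rfl⟩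
    exact h.z_ZJ l
  rw [e]
  refine NOne.LemmaT.char2_centralizer h.bg.hyp.ctx.char2 (h.bg.bau_two.to_le (hle.trans h.ZJ_B)) ?_
  obtain ⟨l, hl⟩ := hs
  intro e1
  have h1 : z l ∈ closure (z '' s) := subset_closure ⟨l, hl, rfl⟩
  rw [e1, mem_bot] at h1
  exact h.z1 l h1

theorem exists_ne (j : Fin k) : ∃ i, i ≠ j := by
  have h3 := h.two
  by_cases e : j = ⟨0, by omega⟩
  · exact ⟨⟨1, by omega⟩, by rw [e]; simp⟩
  · exact ⟨⟨0, by omega⟩, fun e' => e e'.symm⟩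

omit h in
theorem exists_third (h3 : 3 ≤ k) (i j : Fin k) : ∃ l, l ≠ i ∧ l ≠ j := by
  classical
  by_contra hcon
  push Not at hcon
  have h1 : (Finset.univ : Finset (Fin k)) ⊆ {i, j} := by
    intro l _
    by_cases e : l = i
    · simp [e]
    · simp [hcon l e]
  have h2 := (Finset.card_le_card h1).trans (Finset.card_le_two)
  rw [Finset.card_univ, Fintype.card_fin] at h2
  omega

theorem ne_compl (j : Fin k) : ({j}ᶜ : Set (Fin k)).Nonempty := by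
  obtain ⟨i, hi⟩ := h.exists_ne j
  exact ⟨i, hi⟩

omit h in
theorem ne_compl2 (h3 : 3 ≤ k) (i j : Fin k) : (({i, j} : Set (Fin k))ᶜ).Nonempty := by
  obtain ⟨l, h1, h2⟩ := exists_third h3 i j
  exact ⟨l, fun e => by
    rcases e with e | e
    · exact h1 e
    · exact h2 e⟩

theorem o2_Y_le_T (j : Fin k) : o2 (YY z j) ≤ TT S W :=
  o2_le_of_sylow T_two (Cfsg.Agent.ZN.ChoiceSit.syl_not_dvd (h.syl_Y (h.T_Y j) le_rfl))

/-- groups between `T` and `Y_j` have characteristic 2 -/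
theorem char2_R {R : Subgroup G} {j : Fin k} (hT : TT S W ≤ R) (hR : R ≤ YY z j) :
    R ⊓ centralizer (o2 R : Set G) ≤ o2 R := by
  have h1 : o2 (YY z j) ≤ o2 R := MinSimple.Basic.o2_normal_le_o2 ((h.o2_Y_le_T j).trans hT) hR
  intro x hx
  exact h1 (h.char2_CT (h.ne_compl j) ⟨hR hx.1, centralizer_le h1 hx.2⟩)

theorem z_zc (j : Fin k) : z j ∈ zc (TT S W) :=
  mem_zc.2 ⟨h.B_T (h.Z_B j (h.zZ j)), h.ZJ_sq (h.z_ZJ j), fun t ht => h.Tz j t ht⟩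

/-- **minimal parabolics of `Y_j` over `T`** -/
theorem par {R : Subgroup G} {j : Fin k} (hR : IsMinPar (TT S W) R) (hY : R ≤ YY z j) :
    (∀ r ∈ R, r * z j = z j * r) ∨ (∀ l, R ≤ normalizer (Z l : Set G)) ∨
      ∃ L' : Subgroup G, L' ≤ R ∧ R ≤ L' ⊔ TT S W ∧ L' ≤ normalizer (W j : Set G) ∧
        ∀ l, l ≠ j → L' ≤ centralizer (Z l : Set G) := by
  by_cases h1 : ∀ r ∈ R, r * z j = z j * r
  · exact Or.inl h1
  right
  by_cases hK : K ≤ o2 R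
  · left
    intro l r hr
    exact h.norm_ZJ (hY hr) (h.lb.nrm _ (o2_isPGroup R) hK (le_normalizer_o2 R hr)) l
  right
  exact h.blk j R hY hR (h.syl_Y hR.le hY) (h.char2_R hR.le hY) hK h1

/-- elements of `C(C_i) ∩ N(B)`… centralise the other `z l` -/
theorem YY_of_C {i : Fin k} {x : G} (hx : x ∈ centralizer (C i : Set G)) : x ∈ YY z i := mem_YY.2 fun l hl =>
  (mem_centralizer_iff.1 hx _ (h.bg.fr.WjC i l (Ne.symm hl) (h.z_W l))).symm

/-- **`Y_i ∩ N(Z_i) ∩ N(W_i)` is transitive on `W_i − Z_i`** -/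
theorem trW {i : Fin k} {v v' : G} (hv : v ∈ W i) (hvZ : v ∉ Z i) (hv' : v' ∈ W i) (hvZ' : v' ∉ Z i) :
    ∃ x ∈ YY z i, x ∈ normalizer (Z i : Set G) ∧ x ∈ normalizer (W i : Set G) ∧ x * v * x⁻¹ = v' := by
  obtain ⟨g, hg, hgC, hgZ, -, h1, -⟩ := (h.bg.scal (by norm_num) i).ex v hv hvZ v' hv' hvZ'
  have hgW : g ∈ normalizer (W i : Set G) := mem_normalizer_iff_cj.2 (h.bg.fix hg hgC i)
  have h2 : g * v * g⁻¹ ∈ W i := (mem_normalizer_iff.1 hgW v).1 hv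
  have h3 : g * v * g⁻¹ ∉ Z i := fun hc => hvZ ((mem_normalizer_iff.1 hgZ v).2 hc)
  obtain ⟨b, hb, hbC, e⟩ := h.bg.root i _ h2 h3 _ (inv_mem h1)
  refine ⟨b * g, mul_mem (h.YY_of_C hbC) (h.YY_of_C hgC), mul_mem ?_ hgZ, mul_mem (h.B_W i hb) hgW, ?_⟩
  · exact h.T_Z i (h.B_T hb)
  · have hc : (v'⁻¹ * (g * v * g⁻¹))⁻¹ * (g * v * g⁻¹) = v' := by
      have e1 : v' * (g * v * g⁻¹) = g * v * g⁻¹ * v' :=
        h.bg.fr.Vc (h.bg.fr.WV i hv') (h.bg.fr.WV i h2)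
      calc (v'⁻¹ * (g * v * g⁻¹))⁻¹ * (g * v * g⁻¹) = (g * v * g⁻¹)⁻¹ * (v' * (g * v * g⁻¹)) := by group
        _ = v' := by rw [e1]; group
    calc b * g * v * (b * g)⁻¹ = b * (g * v * g⁻¹) * b⁻¹ * (g * v * g⁻¹)⁻¹ * (g * v * g⁻¹) := by group
      _ = v' := by rw [e, hc]

/-- **`N_{Y_i}(W_i) ≤ ⟨D, Y_i ∩ N(Z_i)⟩`** -/
theorem norm_W_le {i : Fin k} (hp : ∃ f ∈ DD z, f ∈ normalizer (W i : Set G) ∧ f ∉ normalizer (Z i : Set G)) :
    YY z i ⊓ normalizer (W i : Set G) ≤ DD z ⊔ (YY z i ⊓ normalizer (Z i : Set G)) := by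
  obtain ⟨f, hfD, hfW, hfZ⟩ := hp
  have hfY : f ∈ YY z i := DD_le_CT hfD
  -- all vectors
  have key : ∀ w ∈ W i, w ≠ 1 → ∃ x ∈ YY z i, x ∈ DD z ⊔ (YY z i ⊓ normalizer (Z i : Set G)) ∧
      x * z i * x⁻¹ = w := by
    have hZ : ∀ w ∈ Z i, w ≠ 1 → ∃ x ∈ YY z i, x ∈ DD z ⊔ (YY z i ⊓ normalizer (Z i : Set G)) ∧
        x * z i * x⁻¹ = w := by
      intro w hw hw1
      obtain ⟨x, hxY, hxZ, -, e⟩ := h.tor hw hw1
      exact ⟨x, hxY, mem_sup_right ⟨hxY, hxZ⟩, e⟩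
    obtain ⟨w₀, hw₀, hn⟩ : ∃ w ∈ Z i, f * w * f⁻¹ ∉ Z i := by
      by_contra hcon
      push Not at hcon
      apply hfZ
      rw [mem_normalizer_iff_cj]
      refine Subgroup.eq_of_le_of_card_ge ?_ (by rw [card_cj])
      rintro _ ⟨w, hw, rfl⟩
      exact hcon w hw
    have hw01 : w₀ ≠ 1 := by
      rintro rfl
      apply hn
      rw [mul_one, mul_inv_cancel]
      exact one_mem _
    obtain ⟨x₀, hx₀Y, hx₀, e₀⟩ := hZ w₀ hw₀ hw01
    have hfw : f * w₀ * f⁻¹ ∈ W i := (mem_normalizer_iff.1 hfW w₀).1 ((h.bg.fr.blk i).ZV hw₀)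
    intro w hw hw1
    by_cases hwZ : w ∈ Z i
    · exact hZ w hwZ hw1
    · obtain ⟨y, hyY, hyZ, -, ey⟩ := h.trW hfw hn hw hwZ
      refine ⟨y * f * x₀, mul_mem (mul_mem hyY hfY) hx₀Y,
        mul_mem (mul_mem (mem_sup_right ⟨hyY, hyZ⟩) (mem_sup_left hfD)) hx₀, ?_⟩
      calc y * f * x₀ * z i * (y * f * x₀)⁻¹ = y * (f * (x₀ * z i * x₀⁻¹) * f⁻¹) * y⁻¹ := by group
        _ = w := by rw [e₀, ey]
  rintro g ⟨hgY, hgW⟩
  have h1 : g * z i * g⁻¹ ∈ W i := (mem_normalizer_iff.1 hgW _).1 (h.z_W i)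
  obtain ⟨x, hxY, hx, e⟩ := key _ h1 fun e1 => h.z1 i (conj_eq_one_iff.1 e1)
  have h2 : x⁻¹ * g ∈ DD z := by
    refine mem_DD_of (mul_mem (inv_mem hxY) hgY) ?_
    have e2 : x⁻¹ * g * z i * (x⁻¹ * g)⁻¹ = z i := by
      calc x⁻¹ * g * z i * (x⁻¹ * g)⁻¹ = x⁻¹ * (g * z i * g⁻¹) * x := by group
        _ = x⁻¹ * (x * z i * x⁻¹) * x := by rw [e]
        _ = z i := by group
    exact mul_inv_eq_iff_eq_mul.1 e2
  have e3 : g = x * (x⁻¹ * g) := by group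
  rw [e3]
  exact mul_mem hx (mem_sup_left h2)

/-- **`Y_i = ⟨D, Y_i ∩ N(Z_i)⟩`** -/
theorem gen {i : Fin k} (hp : ∃ f ∈ DD z, f ∈ normalizer (W i : Set G) ∧ f ∉ normalizer (Z i : Set G)) :
    YY z i ≤ DD z ⊔ (YY z i ⊓ normalizer (Z i : Set G)) := by
  refine le_of_forall (h.T_Y i) (fun n hn => mem_sup_left (h.norm_T hn.1 hn.2).1) fun R hR hY => ?_
  rcases h.par hR hY with h1 | h1 | ⟨L', hLR, hRL, hLW, -⟩
  · exact fun r hr => mem_sup_left (mem_DD_of (hY hr) (h1 r hr))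
  · exact fun r hr => mem_sup_right ⟨hY hr, h1 i hr⟩
  · refine hRL.trans (sup_le ?_ (h.T_D.trans le_sup_left))
    exact (le_inf (hLR.trans hY) hLW).trans (h.norm_W_le hp)

end FrW

/-- the weak frame from 203's frame -/
theorem FrW.of [Finite G] {S : Sylow 2 G} {P K B ZJ : Subgroup G} {L W Z C : Fin k → Subgroup G} {z : Fin k → G}
    (h : FrK S P K B ZJ L W Z C z) : FrW S P K B ZJ L W Z C z where
  bg := h.bg
  lb := h.lb
  two := h.two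
  zZ := h.zZ
  z1 := h.z1
  Tz := h.Tz
  fx := h.fx
  blk := by
    intro j R hY hR _ _ hK h1
    have h2 : ¬ R ≤ centralizer (zc (TT S W) : Set G) := by
      intro hc
      apply h1
      intro r hr
      exact (mem_centralizer_iff.1 (hc hr) _ (h.z_zc j)).symm
    obtain ⟨L', V', hbl, hLR, hRL⟩ := h.blk R hR (h.syl_Y hR.le hY) (h.char2_R hR.le hY) hK h2
    obtain ⟨i, rfl, hc⟩ := h.uni L' _ hbl
    obtain ⟨⟨Z', q', hF⟩, -⟩ := hbl
    have hij : i = j := by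
      by_contra hne
      apply h1
      have h3 : L' ≤ centralizer ({z j} : Set G) := by
        intro l hl
        rw [mem_centralizer_singleton_iff]
        exact hc _ (h.z_ZJ j) (h.bg.fr.WjC i j hne (h.z_W j)) l hl
      have h4 : R ≤ centralizer ({z j} : Set G) := hRL.trans (sup_le h3 fun t ht => by
        rw [mem_centralizer_singleton_iff]; exact h.Tz j t ht)
      exact fun r hr => mem_centralizer_singleton_iff.1 (h4 hr)
    subst hij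
    refine ⟨L', hLR, hRL, le_norm_of hF.nV, fun l hl x hx => ?_⟩
    rw [mem_centralizer_iff]
    intro y hy
    exact (hc y (h.bg.fr.Z_le l hy) (h.bg.fr.WjC i l (Ne.symm hl) ((h.bg.fr.blk l).ZV hy)) x hx).symm

end Cfsg.Agent.Omega.EK3.FKG
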