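import Cfsg.Agent.Omega.EK3.FKG.Loc
import Cfsg.Agent.Omega.EK3.FK.KOneI

/-!
# (4F-K) with weak inputs: K1

Port of helper203's `EK3/FK/KOneI.lean` to `FrW`.

* `FrW.inp_of_md` : the input `KOne.Inp` from module data `MD`;
* `FrW.o2_le_W_of`, **`FrW.o2_le_Z_of`** : `O₂(D)` centralises `W i`, `Z i`, from `KOne.Inp`.
-/

set_option autoImplicit false
set_option linter.unusedSectionVars false

namespace Cfsg.Agent.Omega.EK3.FKG

open Subgroup Cfsg Cfsg.Agent.ZN.ChoiceBase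
open Cfsg.Agent.ZN (jj zj bau zc zl o2)
open Cfsg.Agent.ZN.ChoiceSit (Syl exists_syl syl_conj)
open Cfsg.Agent.Omega.NO3S.EThree.Frame
open Cfsg.Agent.Omega.FFThm (NatK)
open Cfsg.Agent.Omega.OM.FourF (Act Co conjW MD)
open Cfsg.Agent.Omega.OM.Lev.Nat
open Cfsg.Agent.Omega.Node.MultiOf
open Cfsg.Agent.Omega.EK3.FK
open Cfsg.Agent.MinSimple.VModule (o2_isPGroup le_o2 le_normalizer_o2 o2_le_of_sylow)

universe u

variable {G : Type u} [Group G] {k : ℕ}

namespace FrW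

variable [Finite G] {S : Sylow 2 G} {P K B ZJ : Subgroup G} {L W Z C : Fin k → Subgroup G} {z : Fin k → G}
  (h : FrW S P K B ZJ L W Z C z)
include h

theorem inp_of_md {F : Type} [Field F] [CharP F 2] (hF : Nat.card F = 4) {V D' : Subgroup G}
    {N : NatK F (S : Subgroup G) P V D' k} {ZJ' : Subgroup G} {W' Z' : Fin k → Subgroup G} {z₀ f₀ : Fin k → F}
    (m : MD N B ZJ' W' Z' z₀ f₀) (σ : Equiv.Perm (Fin k)) (hW : ∀ i, W i = W' (σ i)) (hZ : ∀ i, Z i = Z' (σ i))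
    (i : Fin k) : KOne.Inp (YY z i) (o2 (DD z)) (W i) (Z i) (z i) (MD.co N z₀ f₀ (σ i)) := by
  have hOT : o2 (DD z) ≤ TT S W := h.o2_CT_le_T Set.univ
  have hTZ : ∀ t ∈ TT S W, cj t (Z' (σ i)) = Z' (σ i) := by
    intro t ht
    rw [← hZ i]
    exact mem_normalizer_iff_cj.1 (h.T_Z i ht)
  have hact : ∀ t ∈ TT S W, ∃ l : F, KOne.ALin (W i) (MD.co N z₀ f₀ (σ i)) l t ∨
      KOne.ASem (W i) (MD.co N z₀ f₀ (σ i)) l t := by
    intro t ht
    rw [hW i]
    exact m.act4 hF (T_le_S ht) (hTZ t ht)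
  -- `u = z i`
  obtain ⟨u, hu, hue⟩ := m.exists_u (σ i)
  have huZ : u ∈ Z i := by rw [hZ i]; exact hu
  have huW : u ∈ W i := (h.bg.fr.blk i).ZV huZ
  have hu1 : u ≠ 1 := by
    rintro rfl
    have h5 := m.co_mul (i := σ i) (one_mem V) (one_mem V)
    rw [mul_one] at h5
    rw [left_eq_add.1 h5] at hue
    have := congrArg Prod.fst hue
    simp at this
  have huz : u = z i := by
    refine (h.fx i u huZ fun t ht => ?_).resolve_left hu1
    have htW : t * u * t⁻¹ ∈ W i := conjW (T_W i ht) huW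
    refine mul_inv_eq_iff_eq_mul.1 (m.co_inj (i := σ i) (by rw [← hW i]; exact htW) (by rw [← hW i]; exact huW) ?_)
    obtain ⟨l, hl | hl⟩ := hact t ht
    · rw [hl u huW, hue]
      ext <;> simp
    · rw [hl u huW, hue]
      ext <;> simp
  subst huz
  exact
  { card := hF
    co := by
      rw [hW i, hZ i]
      exact m.toCo hu hue
    OW := hOT.trans (T_W i)
    act := fun o ho => hact o (hOT ho)
    full := fun l => by
      obtain ⟨b, hb, h1⟩ := m.full (σ i) l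
      refine ⟨b, (h.B_T.trans h.T_D).trans (le_normalizer_o2 _) hb, h.B_W i hb, ?_⟩
      rw [hW i]
      exact h1
    sl := fun a b c d hd => by
      obtain ⟨g, -, hg, h1, h2⟩ := m.sl (σ i) a b c d hd
      refine ⟨g, mem_YY.2 fun l hl => ?_, by rw [hW i]; exact hg, by rw [hW i]; exact h1⟩
      refine h2 (σ l) (fun e => hl (σ.injective e)) _ ?_
      rw [← hW l]
      exact h.z_W l
    nor := fun x hx _ hxz => le_normalizer_o2 _ (mem_DD_of hx hxz) }

theorem hz : Q.HZ S W Z z := fun i => ⟨h.zZ i, h.z1 i, fun w hw => ⟨fun h1 => h.fx i w hw h1, by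
  rintro (rfl | rfl)
  · intro t _
    simp
  · exact fun t ht => h.Tz i t ht⟩⟩

/-- **K1** : `O₂(D)` centralises `W i` -/
theorem o2_le_W_of {F : Type} [Field F] [CharP F 2] {e : G → F × F} {i : Fin k}
    (he : KOne.Inp (YY z i) (o2 (DD z)) (W i) (Z i) (z i) e)
    (hp : ∃ f ∈ DD z, f ∈ normalizer (W i : Set G) ∧ f ∉ normalizer (Z i : Set G)) :
    o2 (DD z) ≤ centralizer (W i : Set G) := by
  obtain ⟨f, hf, hfW, hfZ⟩ := hp
  exact he.le_cent (DD_le_CT hf) hfW (mem_DD.1 hf i) hfZ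

/-- **K1** : `O₂(D)` centralises `Z i` -/
theorem o2_le_Z_of {F : Type} [Field F] [CharP F 2] {e : G → F × F} {i : Fin k}
    (he : KOne.Inp (YY z i) (o2 (DD z)) (W i) (Z i) (z i) e)
    (hp : ∃ f ∈ DD z, f ∈ normalizer (W i : Set G) ∧ f ∉ normalizer (Z i : Set G)) :
    o2 (DD z) ≤ centralizer (Z i : Set G) := (h.o2_le_W_of he hp).trans (centralizer_le (h.bg.fr.blk i).ZV)

end FrW

end Cfsg.Agent.Omega.EK3.FKG
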