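import Cfsg.Agent.Omega.EK3.FKG.KOne
import Cfsg.Agent.Omega.NO3S.EThree.FourTwo.End

/-!
# (4F-K) with weak inputs, `k = 2`

Port of `NO3S/EThree/FourTwo` to `FrW`.

* `FrW.two_fr` : 764's abstract frame `KL.TwoG.Fr`;  **`FrW.false_two`** : contradiction, from (K1) and `hp`.
-/

set_option autoImplicit false
set_option linter.unusedSectionVars false

namespace Cfsg.Agent.Omega.EK3.FKG

open Subgroup Cfsg Cfsg.Agent.ZN.ChoiceBase
open Cfsg.Agent.ZN (jj zj bau zc zl o2)
open Cfsg.Agent.ZN.ChoiceSit (Syl exists_syl syl_conj)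
open Cfsg.Agent.Omega.NO3S.EThree.Frame
open Cfsg.Agent.Omega.Node.MultiOf
open Cfsg.Agent.Omega.EK3.FK
open Cfsg.Agent.Omega.EK3.StarE (EE cj_le_EE)
open Cfsg.Agent.Omega.MinPar (NonLoc)
open Cfsg.Agent.Omega.ML.Final (MLK)
open Cfsg.Agent.Omega.NO3S.EThree.FourTwo (cen_eq cen_succ inter_eq fin2 fin2' add_two ne_succ eq_succ)
open Cfsg.Agent.MinSimple.MinParabolic (IsMinPar le_of_forall)

universe u

variable {G : Type u} [Group G]

namespace FrW

namespace Two

variable [Finite G] {S : Sylow 2 G} {P K B ZJ : Subgroup G} {L W Z C : Fin 2 → Subgroup G} {z : Fin 2 → G}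
  (h : FrW S P K B ZJ L W Z C z)
include h

theorem char2 (i : Fin 2) : centralizer (zpowers (z i) : Set G) ⊓
    centralizer (o2 (centralizer (zpowers (z i) : Set G)) : Set G) ≤ o2 (centralizer (zpowers (z i) : Set G)) := by
  rw [cen_eq]
  exact h.char2_CT (h.ne_compl _)

theorem sqV (i : Fin 2) : ∀ x ∈ Z i, x ^ 2 = 1 := fun _ hx => h.ZJ_sq (h.bg.fr.Z_le i hx)

theorem ZV (i : Fin 2) : zpowers (z i) ≤ Z i := zpowers_le.2 (h.zZ i)

theorem ne (i : Fin 2) : zpowers (z i) ≠ ⊥ := fun e => h.z1 i (zpowers_eq_bot.1 e)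

theorem syl (i : Fin 2) : Syl (TT S W) (centralizer (zpowers (z i) : Set G)) := by
  rw [cen_eq]
  exact h.syl_Y (h.T_Y _) le_rfl

/-- `D` normalises `⟨z l⟩` -/
theorem D_norm {x : G} (hx : x ∈ DD z) (l : Fin 2) : x ∈ normalizer (zpowers (z l) : Set G) := by
  refine centralizer_le_normalizer _ ?_
  rw [cen_eq]
  exact DD_le_CT hx

theorem nT (i : Fin 2) : centralizer (zpowers (z i) : Set G) ⊓ normalizer (TT S W : Set G) ≤
    normalizer (zpowers (z (i + 1)) : Set G) ⊓ normalizer (Z i : Set G) := by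
  rw [cen_eq]
  rintro x ⟨hx, hT⟩
  have h1 := h.norm_T hx hT
  exact ⟨D_norm h h1.1 _, h1.2 i⟩

theorem nV (i : Fin 2) : TT S W ≤ normalizer (Z i : Set G) := h.T_Z i

theorem cV (i : Fin 2) : ∀ w ∈ Z i, w ∈ centralizer (TT S W : Set G) → w ∈ zpowers (z i) := by
  intro w hw hc
  rcases h.fx i w hw (fun t ht => mem_centralizer_iff.1 hc t ht) with rfl | rfl
  · exact one_mem _
  · exact mem_zpowers _

/-- `z i` has order 2 -/
theorem zp {i : Fin 2} {w : G} (hw : w ∈ zpowers (z i)) : w = 1 ∨ w = z i := by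
  obtain ⟨n, rfl⟩ := mem_zpowers_iff.1 hw
  rcases Int.even_or_odd' n with ⟨m, rfl | rfl⟩
  · left
    rw [zpow_mul]
    have : z i ^ (2 : ℤ) = 1 := by exact_mod_cast h.ZJ_sq (h.z_ZJ i)
    rw [this, one_zpow]
  · right
    rw [zpow_add, zpow_mul]
    have : z i ^ (2 : ℤ) = 1 := by exact_mod_cast h.ZJ_sq (h.z_ZJ i)
    rw [this, one_zpow, one_mul, zpow_one]

theorem sti (i : Fin 2) : ∀ w ∈ zpowers (z (i + 1)), w ≠ 1 →
    centralizer (zpowers (z i) : Set G) ⊓ centralizer ({w} : Set G) ≤ normalizer (zpowers (z (i + 1)) : Set G) := by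
  intro w hw hw1
  rcases zp h hw with rfl | rfl
  · exact absurd rfl hw1
  · rintro x ⟨-, hx⟩
    refine centralizer_le_normalizer _ ?_
    have h2 : zpowers (z (i + 1)) ≤ centralizer ({x} : Set G) := by
      rw [zpowers_le, mem_centralizer_singleton_iff]
      exact (mem_centralizer_singleton_iff.1 hx).symm
    exact mem_centralizer_iff.2 fun y hy => mem_centralizer_singleton_iff.1 (h2 hy)

/-- an odd element of `N(Z_j) ∩ C(z_j)` centralises `Z_j` -/
theorem odd_cen {j : Fin 2} {g : G} (hg : g ∈ normalizer (Z j : Set G)) (hz : g * z j = z j * g)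
    (ho : Odd (orderOf g)) : g ∈ centralizer (Z j : Set G) := by
  -- `g ^ 2` centralises `Z j`
  have key : ∀ p ∈ Z j, g * p * g⁻¹ = p ∨ g * p * g⁻¹ = p * z j := by
    intro p hp
    by_cases hpz : p ∈ zpowers (z j)
    · left
      rcases zp h hpz with rfl | rfl
      · group
      · rw [hz]; group
    have hw : g * p * g⁻¹ ∈ Z j := (mem_normalizer_iff.1 hg p).1 hp
    by_cases hwz : g * p * g⁻¹ ∈ zpowers (z j)
    · exfalso
      apply hpz
      rcases zp h hwz with e | e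
      · rw [conj_eq_one_iff.1 e]; exact one_mem _
      · have e1 : p = g⁻¹ * (g * p * g⁻¹) * g := by group
        have e2 : g⁻¹ * z j * g = z j := by rw [mul_assoc, ← hz]; group
        rw [e1, e, e2]
        exact mem_zpowers _
    have h4 : Nat.card (Z j) = 4 := h.bg.fr.cardZ j
    have h1 : Nat.card (zpowers (z j)) = 2 := by
      rw [Nat.card_zpowers]
      exact orderOf_eq_prime (h.ZJ_sq (h.z_ZJ j)) (h.z1 j)
    have h2 := Subgroup.relIndex_mul_relIndex ⊥ (zpowers (z j)) (Z j) bot_le (zpowers_le.2 (h.zZ j))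
    rw [Subgroup.relIndex_bot_left, Subgroup.relIndex_bot_left, h1, h4] at h2
    have h3 : ((zpowers (z j)).subgroupOf (Z j)).index = 2 := by
      change (zpowers (z j)).relIndex (Z j) = 2
      omega
    have h5 := (Subgroup.mul_mem_iff_of_index_two h3 (a := ⟨p⁻¹, inv_mem hp⟩) (b := ⟨g * p * g⁻¹, hw⟩)).2
    rw [mem_subgroupOf, mem_subgroupOf, mem_subgroupOf] at h5
    have h6 := h5 ⟨fun h2 => absurd (inv_mem_iff.1 h2) hpz, fun h2 => absurd h2 hwz⟩
    change p⁻¹ * (g * p * g⁻¹) ∈ zpowers (z j) at h6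
    rcases zp h h6 with e | e
    · left; exact (inv_mul_eq_one.1 e).symm
    · right; rw [← e]; group
  have h2 : g ^ 2 ∈ centralizer (Z j : Set G) := by
    rw [mem_centralizer_iff]
    intro p hp
    have e2 : g * z j * g⁻¹ = z j := by rw [hz]; group
    have h3 : g ^ 2 * p * (g ^ 2)⁻¹ = p := by
      have e3 : g ^ 2 * p * (g ^ 2)⁻¹ = g * (g * p * g⁻¹) * g⁻¹ := by rw [pow_two]; group
      rw [e3]
      rcases key p hp with e | e
      · rw [e, e]
      · rw [e]
        have e4 : g * (p * z j) * g⁻¹ = (g * p * g⁻¹) * (g * z j * g⁻¹) := by group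
        rw [e4, e, e2, mul_assoc, ← pow_two, h.ZJ_sq (h.z_ZJ j), mul_one]
    calc p * g ^ 2 = (g ^ 2 * p * (g ^ 2)⁻¹) * g ^ 2 := by rw [h3]
      _ = g ^ 2 * p := by group
  obtain ⟨m, hm⟩ := ho
  have e : g = (g ^ 2) ^ (m + 1) := by
    have e1 : g ^ (2 * m + 1) = 1 := by rw [← hm]; exact pow_orderOf_eq_one g
    calc g = g ^ (2 * m + 1) * g := by rw [e1, one_mul]
      _ = (g ^ 2) ^ (m + 1) := by rw [← pow_succ, ← pow_mul]; congr 1
  rw [e]
  exact pow_mem h2 _

theorem odd (i j : Fin 2) (hij : i ≠ j) : ∀ R : Subgroup G, IsMinPar (TT S W) R →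
    R ≤ centralizer (zpowers (z j) : Set G) → ¬ R ≤ centralizer (zpowers (z i) : Set G) →
      ∀ g ∈ R, Odd (orderOf g) → g ∈ centralizer (Z j : Set G) := by
  intro R hR hRj hRi g hg ho
  have hj : j = i + 1 := eq_succ i j hij
  have hY : R ≤ YY z i := by
    rw [← cen_succ, ← hj]; exact hRj
  have hz : ∀ r ∈ R, r * z j = z j * r := fun r hr => (mem_centralizer_iff.1 (hRj hr) _ (mem_zpowers _)).symm
  have hN : R ≤ normalizer (Z j : Set G) := by
    rcases h.par hR hY with h1 | h1 | ⟨L', -, hRL, -, hc⟩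
    · exfalso
      apply hRi
      intro r hr
      have h2 : zpowers (z i) ≤ centralizer ({r} : Set G) := by
        rw [zpowers_le, mem_centralizer_singleton_iff]
        exact (h1 r hr).symm
      exact mem_centralizer_iff.2 fun y hy => mem_centralizer_singleton_iff.1 (h2 hy)
    · exact h1 j
    · exact hRL.trans (sup_le ((hc j hij.symm).trans (centralizer_le_normalizer _)) (h.T_Z j))
  exact odd_cen h (hN hg) (hz g hg) ho

theorem VN (i : Fin 2) : Z (i + 1) ≤ EE (zpowers (z (i + 1))) (centralizer (zpowers (z i) : Set G)) := by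
  intro w hw
  by_cases hw1 : w = 1
  · rw [hw1]; exact one_mem _
  obtain ⟨x, hx, -, -, e⟩ := h.tor hw hw1
  rw [← e, cen_eq]
  exact cj_le_EE hx ⟨z (i + 1), mem_zpowers _, rfl⟩

theorem gen (hp : ∀ i, ∃ f ∈ DD z, f ∈ normalizer (W i : Set G) ∧ f ∉ normalizer (Z i : Set G)) (i : Fin 2) :
    ∀ K' : Subgroup G, centralizer (zpowers (z 0) : Set G) ⊓ centralizer (zpowers (z 1) : Set G) ≤ K' →
      centralizer (zpowers (z (i + 1)) : Set G) ⊓ normalizer (Z i : Set G) ≤ K' →
        centralizer (zpowers (z (i + 1)) : Set G) ≤ K' := by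
  intro K' h1 h2
  rw [inter_eq] at h1
  rw [cen_succ] at h2 ⊢
  exact (h.gen (hp i)).trans (sup_le h1 h2)

theorem nonloc (hE : NLY z) :
    NonLoc (centralizer (zpowers (z 0) : Set G)) (centralizer (zpowers (z 1) : Set G)) := by
  intro U hU h0 h1
  refine hE U hU fun i => ?_
  rw [← cen_succ]
  fin_cases i
  · exact h1
  · exact h0

end Two

/-- `Y_j` is a `K`-group -/
theorem kgroup [Finite G] {S : Sylow 2 G} {P K B ZJ : Subgroup G} {k : ℕ} {L W Z C : Fin k → Subgroup G}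
    {z : Fin k → G} (h : FrW S P K B ZJ L W Z C z) (j : Fin k) :
    IsKGroup (YY z j) := by
  have hG := h.bg.hyp.ctx
  refine hG.kproper _ fun htop => ?_
  have := hG.simple
  obtain ⟨l, hl⟩ := h.exists_ne j
  have hz : z l ∈ center G := by
    rw [mem_center_iff]
    intro g
    have hg : g ∈ YY z j := by rw [htop]; exact mem_top g
    exact mem_YY.1 hg l hl
  rcases (inferInstance : (center G).Normal).eq_bot_or_eq_top with h1 | h1
  · rw [h1, mem_bot] at hz
    exact h.z1 l hz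
  · apply hG.nonComm
    refine ⟨⟨fun a b => ?_⟩⟩
    have hb : b ∈ center G := by rw [h1]; exact mem_top b
    exact mem_center_iff.1 hb a

variable [Finite G] {S : Sylow 2 G} {P K B ZJ : Subgroup G} {L W Z C : Fin 2 → Subgroup G} {z : Fin 2 → G}
  (h : FrW S P K B ZJ L W Z C z)
include h

/-- **764's frame.** -/
theorem two_fr (hE : NLY z)
    (hp : ∀ i, ∃ f ∈ DD z, f ∈ normalizer (W i : Set G) ∧ f ∉ normalizer (Z i : Set G))
    (hO : ∀ i, o2 (DD z) ≤ centralizer (Z i : Set G)) : KL.TwoG.Fr (TT S W) Z fun i => zpowers (z i) where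
  char2 := Two.char2 h
  sqV := Two.sqV h
  ZV := Two.ZV h
  ne := Two.ne h
  syl := Two.syl h
  nT := Two.nT h
  nV := Two.nV h
  cV := Two.cV h
  OV i := by
    rw [inter_eq]
    exact hO i
  VN := Two.VN h
  sti := Two.sti h
  odd := Two.odd h
  gen := Two.gen h hp
  nonloc := Two.nonloc h hE

/-- **(4F) is impossible, `k = 2`**, given (K1) and `hp`. -/
theorem false_two' (hML : MLK.{u, u}) (hX : ML.Ex.Two.Ext.{u, u}) (hE : NLY z)
    (hp : ∀ i, ∃ f ∈ DD z, f ∈ normalizer (W i : Set G) ∧ f ∉ normalizer (Z i : Set G))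
    (hO : ∀ i, o2 (DD z) ≤ centralizer (Z i : Set G)) : False :=
  (h.two_fr hE hp hO).false_of hML hX fun i => by
    change IsKGroup (centralizer (zpowers (z i) : Set G))
    rw [cen_eq]
    exact h.kgroup _

/-- **(4F) is impossible, `k = 2`**, given (K1) and `hp`. -/
theorem false_two (hML : MLK.{u, u}) (hX : ML.Ex.Two.Ext.{u, u}) (hE : NLoc (centralizer (ZJ : Set G) ⊔ ⨆ i, L i))
    (hp : ∀ i, ∃ f ∈ DD z, f ∈ normalizer (W i : Set G) ∧ f ∉ normalizer (Z i : Set G))
    (hO : ∀ i, o2 (DD z) ≤ centralizer (Z i : Set G)) : False :=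
  h.false_two' hML hX (h.nly hE) hp hO

end FrW

end Cfsg.Agent.Omega.EK3.FKG
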